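import Groth.Agent.PairHensLib.Nbhd
import Mathlib

/-! Finite étale algebras over the henselization of a noetherian pair come from an étale neighbourhood. -/

set_option autoImplicit false
set_option maxHeartbeats 800000
universe u

open TensorProduct

namespace HensDescLib

variable {A B : Type u} [CommRing A] [CommRing B] [Algebra A B] {I : Ideal A}

theorem exists_nbhd_kill (hB : Hens2.IsPairHenselization A I B) {U : Type u} [CommRing U] [Algebra A U]
    [Algebra.Etale A U] (hb : Function.Bijective (Ideal.quotientMap (I.map (algebraMap A U)) (algebraMap A U) Ideal.le_comap_map))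
    (φ : U →ₐ[A] B) (T : Finset U) (hT : ∀ t ∈ T, φ t = 0) :
    ∃ (U' : Type u) (_ : CommRing U') (_ : Algebra A U') (_ : Algebra.Etale A U'),
      Function.Bijective (Ideal.quotientMap (I.map (algebraMap A U')) (algebraMap A U') Ideal.le_comap_map) ∧
        ∃ (ψ : U →ₐ[A] U') (φ' : U' →ₐ[A] B), φ'.comp ψ = φ ∧ ∀ t ∈ T, ψ t = 0 := by
  classical
  induction T using Finset.induction_on with
  | empty => exact ⟨U, inferInstance, inferInstance, inferInstance, hb, AlgHom.id A U, φ, AlgHom.comp_id φ, by simp⟩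
  | @insert a T _ ih =>
    obtain ⟨U₁, _, _, _, hb₁, ψ₁, φ₁, h₁, hk₁⟩ := ih fun t ht => hT t (Finset.mem_insert_of_mem ht)
    obtain ⟨U₂, _, _, _, hb₂, ψ₂, hψ₂⟩ := PairHensLib.exists_nbhd_kernel hB hb₁ φ₁ (s := ψ₁ a)
      (by rw [← AlgHom.comp_apply, h₁]; exact hT a (Finset.mem_insert_self _ _))
    haveI := hB.1
    obtain ⟨φ₂, -, -⟩ := PairHensLib.existsUnique_algHom_of_etaleNbhd (C := B) (J := I.map (algebraMap A B)) hb₂ le_rfl
    obtain ⟨τ, -, huniq⟩ := PairHensLib.existsUnique_algHom_of_etaleNbhd (C := B) (J := I.map (algebraMap A B)) hb₁ le_rfl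
    have h₂ : φ₂.comp ψ₂ = φ₁ := (huniq _ trivial).trans (huniq _ trivial).symm
    refine ⟨U₂, inferInstance, inferInstance, inferInstance, hb₂, ψ₂.comp ψ₁, φ₂, by rw [← AlgHom.comp_assoc, h₂, h₁],
      fun t ht => ?_⟩
    rcases Finset.mem_insert.mp ht with rfl | ht
    · exact hψ₂
    · rw [AlgHom.comp_apply, hk₁ t ht, map_zero]

theorem exists_nbhd_factor [IsNoetherianRing A] (hB : Hens2.IsPairHenselization A I B)
    (S : Subalgebra A B) (hS : S.FG) :
    ∃ (U : Type u) (_ : CommRing U) (_ : Algebra A U) (_ : Algebra.Etale A U),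
      Function.Bijective (Ideal.quotientMap (I.map (algebraMap A U)) (algebraMap A U) Ideal.le_comap_map) ∧
        ∃ (ρ : S →ₐ[A] U) (φ : U →ₐ[A] B), φ.comp ρ = S.val := by
  obtain ⟨s, hs⟩ := hS
  obtain ⟨U, _, _, _, ξ, hb, hξ⟩ := PairHensLib.exists_nbhd hB s
  haveI : IsNoetherianRing U := Algebra.FiniteType.isNoetherianRing A U
  obtain ⟨T, hT⟩ := IsNoetherian.noetherian (RingHom.ker ξ.toRingHom)
  obtain ⟨U', i1, i2, i3, hb', ψ, φ', hψ, hk⟩ := exists_nbhd_kill hB hb ξ T fun t ht =>
    RingHom.mem_ker.mp (hT.le (Submodule.subset_span ht))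
  have hle : S ≤ ξ.range := by
    rw [← hs, Algebra.adjoin_le_iff]
    exact hξ
  have hker : RingHom.ker ξ.rangeRestrict ≤ RingHom.ker ψ := by
    intro x hx
    have hx' : x ∈ RingHom.ker ξ.toRingHom := congrArg Subtype.val (RingHom.mem_ker.mp hx)
    rw [← hT] at hx'
    exact Submodule.span_le.mpr (fun t ht => hk t ht) hx'
  let ρ := (AlgHom.liftOfSurjective ξ.rangeRestrict ξ.rangeRestrict_surjective ψ hker).comp (Subalgebra.inclusion hle)
  refine ⟨U', i1, i2, i3, hb', ρ, φ', AlgHom.ext fun y => ?_⟩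
  obtain ⟨x, hx⟩ := ξ.rangeRestrict_surjective (Subalgebra.inclusion hle y)
  show φ' (AlgHom.liftOfSurjective ξ.rangeRestrict ξ.rangeRestrict_surjective ψ hker (Subalgebra.inclusion hle y)) = (y : B)
  rw [← hx, AlgHom.liftOfSurjective_apply, ← AlgHom.comp_apply, hψ]
  exact congrArg Subtype.val hx

/-- Over a subalgebra `S ⊆ B` an equation valid over `B` holds over a finitely generated extension. -/
theorem exists_finite_stage {S N : Type u} [CommRing S] [Algebra S B] [CommRing N] [Algebra S N]
    [Algebra.FiniteType S N] [Module.Finite B (B ⊗[S] N)] :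
    ∃ S' : Subalgebra S B, S'.FG ∧ Module.Finite S' (S' ⊗[S] N) := by
  classical
  obtain ⟨G, hG⟩ := Algebra.FiniteType.out (R := S) (A := N)
  have hint : ∀ n : N, ∃ S' : Subalgebra S B, S'.FG ∧ IsIntegral S' ((1 : S') ⊗ₜ[S] n) := by
    intro n
    obtain ⟨p, hp, hpn⟩ := IsIntegral.of_finite B ((1 : B) ⊗ₜ[S] n)
    let T₀ := Algebra.adjoin S ((Finset.range (p.natDegree + 1)).image p.coeff : Set B)
    have hc : ∀ i, p.coeff i ∈ T₀ := fun i => by
      by_cases hi : i ≤ p.natDegree
      · exact Algebra.subset_adjoin (Finset.mem_coe.mpr (Finset.mem_image_of_mem _ (Finset.mem_range.mpr (by omega))))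
      · rw [Polynomial.coeff_eq_zero_of_natDegree_lt (by omega)]; exact zero_mem _
    let t : T₀ ⊗[S] N := ∑ i ∈ Finset.range (p.natDegree + 1), (⟨p.coeff i, hc i⟩ : T₀) ⊗ₜ[S] (n ^ i)
    have ht : T₀.val.toLinearMap.rTensor N t = 0 := by
      rw [← Polynomial.aeval_def, Polynomial.aeval_eq_sum_range] at hpn
      refine Eq.trans ?_ hpn
      simp [t, Algebra.TensorProduct.tmul_pow, TensorProduct.smul_tmul', smul_eq_mul]
    obtain ⟨S', hle, hS', h'⟩ := TensorProduct.Algebra.eq_of_fg_of_subtype_eq (Subalgebra.fg_adjoin_finset _)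
      (t := t) (t' := 0) (by rw [ht, map_zero])
    rw [map_zero] at h'
    refine ⟨S', hS', ⟨∑ i ∈ Finset.range (p.natDegree + 1), Polynomial.monomial i (Subalgebra.inclusion hle ⟨p.coeff i, hc i⟩), ?_, ?_⟩⟩
    · have hinj : Function.Injective (algebraMap S' B) := Subtype.val_injective
      refine Polynomial.monic_of_injective hinj ?_
      convert hp
      rw [Polynomial.map_sum]
      refine (Finset.sum_congr rfl fun i _ => ?_).trans p.as_sum_range.symm
      rw [Polynomial.map_monomial]
      rfl
    · rw [← Polynomial.aeval_def, map_sum]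
      refine Eq.trans ?_ h'
      simp only [t, map_sum, LinearMap.rTensor_tmul, Polynomial.aeval_monomial, Algebra.TensorProduct.tmul_pow, one_pow,
        Algebra.TensorProduct.algebraMap_apply, Algebra.TensorProduct.tmul_mul_tmul, mul_one, one_mul]
      rfl
  choose T hT hTint using hint
  let S' := G.sup T
  have hS' : S'.FG := by
    show (G.sup T).FG
    clear hG
    induction G using Finset.induction_on with
    | empty => rw [Finset.sup_empty]; exact Subalgebra.fg_bot
    | @insert a G _ ih => rw [Finset.sup_insert]; exact (hT a).sup ih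
  refine ⟨S', hS', ?_⟩
  haveI : Algebra.IsIntegral S' (S' ⊗[S] N) := by
    refine ⟨fun z => ?_⟩
    have hn : ∀ n : N, IsIntegral S' ((1 : S') ⊗ₜ[S] n) := by
      intro n
      have hn : n ∈ Algebra.adjoin S (G : Set N) := hG ▸ Algebra.mem_top
      induction hn using Algebra.adjoin_induction with
      | mem x hx =>
        have hle : T x ≤ S' := Finset.le_sup (f := T) hx
        obtain ⟨p, hp, hpx⟩ := hTint x
        refine ⟨p.map (Subalgebra.inclusion hle).toRingHom, hp.map _, ?_⟩
        rw [Polynomial.eval₂_map]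
        let F : T x ⊗[S] N →ₐ[S] S' ⊗[S] N := Algebra.TensorProduct.map (Subalgebra.inclusion hle) (AlgHom.id S N)
        have h2 := congrArg F.toRingHom hpx
        rw [Polynomial.hom_eval₂, map_zero] at h2
        refine Eq.trans ?_ h2
        congr 1
      | algebraMap r =>
        rw [show (1 : S') ⊗ₜ[S] algebraMap S N r = algebraMap S' (S' ⊗[S] N) (algebraMap S S' r) by
          rw [← IsScalarTower.algebraMap_apply]
          exact (Algebra.TensorProduct.includeRight : N →ₐ[S] S' ⊗[S] N).commutes r]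
        exact isIntegral_algebraMap
      | add x y _ _ hx hy => rw [TensorProduct.tmul_add]; exact hx.add hy
      | mul x y _ _ hx hy =>
        have := hx.mul hy
        rwa [Algebra.TensorProduct.tmul_mul_tmul, one_mul] at this
    induction z with
    | zero => exact isIntegral_zero
    | add a b ha hb => exact ha.add hb
    | tmul a n =>
      rw [show a ⊗ₜ[S] n = algebraMap S' (S' ⊗[S] N) a * ((1 : S') ⊗ₜ n) by simp]
      exact isIntegral_algebraMap.mul (hn n)
  haveI : Algebra.FiniteType S' (S' ⊗[S] N) := inferInstance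
  exact Algebra.IsIntegral.finite

theorem stage_package (S S' U B N C : Type u) [CommRing S] [CommRing S'] [CommRing U] [CommRing B] [CommRing N] [CommRing C]
    [Algebra S S'] [Algebra S N] [Algebra S' U] [Algebra U B] [Algebra S' B] [IsScalarTower S' U B]
    [Algebra S B] [IsScalarTower S S' B] [Algebra B C] [Algebra.Etale S N] [Module.Finite S' (S' ⊗[S] N)]
    (e : C ≃ₐ[B] B ⊗[S] N) :
    ∃ (C' : Type u) (_ : CommRing C') (_ : Algebra U C'), Module.Finite U C' ∧ Algebra.Etale U C' ∧
      Nonempty (B ⊗[U] C' ≃ₐ[B] C) := by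
  have h1 : Algebra.Etale S' (S' ⊗[S] N) := inferInstance
  exact ⟨U ⊗[S'] (S' ⊗[S] N), inferInstance, inferInstance, inferInstance, inferInstance,
    ⟨(Algebra.TensorProduct.cancelBaseChange S' U B B (S' ⊗[S] N)).trans
      ((Algebra.TensorProduct.cancelBaseChange S S' B B N).trans e.symm)⟩⟩

theorem exists_finite_etale_descend [IsNoetherianRing A] (hB : Hens2.IsPairHenselization A I B)
    (C : Type u) [CommRing C] [Algebra B C] [Module.Finite B C] [Algebra.Etale B C] :
    ∃ (U : Type u) (_ : CommRing U) (_ : Algebra A U) (_ : Algebra.Etale A U) (_ : Algebra U B) (_ : IsScalarTower A U B),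
      Function.Bijective (Ideal.quotientMap (I.map (algebraMap A U)) (algebraMap A U) Ideal.le_comap_map) ∧
      ∃ (C' : Type u) (_ : CommRing C') (_ : Algebra U C'), Module.Finite U C' ∧ Algebra.Etale U C' ∧
        Nonempty (B ⊗[U] C' ≃ₐ[B] C) := by
  obtain ⟨S, N, _, _, hS, hN, ⟨e⟩⟩ := Algebra.Etale.exists_subalgebra_fg (R := A) (A := B) (B := C)
  haveI := hN
  haveI : Module.Finite B (B ⊗[S] N) := Module.Finite.equiv e.toLinearEquiv
  obtain ⟨S', hS', hfin⟩ := exists_finite_stage (S := S) (N := N) (B := B)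
  haveI := hfin
  have hS'A : (S'.restrictScalars A).FG := by
    haveI : Algebra.FiniteType A S := (Subalgebra.fg_iff_finiteType S).mp hS
    haveI : Algebra.FiniteType S S' := (Subalgebra.fg_iff_finiteType S').mp hS'
    refine (Subalgebra.fg_iff_finiteType _).mpr ?_
    exact (Algebra.FiniteType.trans (R := A) (S := S) (A := S') inferInstance inferInstance)
  obtain ⟨U, _, _, _, hb, ρ, φ, hρ⟩ := exists_nbhd_factor hB _ hS'A
  letI : Algebra U B := φ.toRingHom.toAlgebra
  haveI : IsScalarTower A U B := IsScalarTower.of_algebraMap_eq fun a => (φ.commutes a).symm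
  letI : Algebra S' U := ρ.toRingHom.toAlgebra
  haveI : IsScalarTower S' U B := IsScalarTower.of_algebraMap_eq fun y => (AlgHom.congr_fun hρ y).symm
  exact ⟨U, inferInstance, inferInstance, inferInstance, inferInstance, inferInstance, hb,
    stage_package S S' U B N C e⟩

end HensDescLib
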